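import Groth.Agent.Lib.QuotLimit.Setup
import Groth.Agent.Lib.Lim.SmoothEtale

/-!
# Quotients by flat equivalence relations descend through limits
-/

set_option autoImplicit false
set_option linter.style.haveILetI false
set_option backward.isDefEq.respectTransparency false

universe u

open CategoryTheory CategoryTheory.Limits AlgebraicGeometry
open Groth.Agent.Lib.Lim

namespace Groth.Agent.Lib.QuotLimit

variable {I : Type u} [SmallCategory I] [IsCofiltered I] {D : I ⥤ Scheme.{u}} {c : Cone D}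
  [∀ (i j : I) (f : i ⟶ j), IsAffineHom (D.map f)]
  [∀ i, CompactSpace (D.obj i)] [∀ i, QuasiSeparatedSpace (D.obj i)]
  (hc : IsLimit c) {k : I}

include hc in
/-- A descending property of morphisms over a stage descends. -/
theorem exists_prop {P : MorphismProperty Scheme.{u}} [P.IsStableUnderBaseChange]
    (H : Descend.Descends P @LocallyOfFinitePresentation) {X Y : Over (D.obj k)}
    [LocallyOfFinitePresentation X.hom] [QuasiCompact X.hom] [QuasiSeparated X.hom]
    [LocallyOfFinitePresentation Y.hom] [QuasiCompact Y.hom] [QuasiSeparated Y.hom]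
    (p : X ⟶ Y) (h : P ((Over.pullback (c.π.app k)).map p).left) :
    ∃ (i : I) (φ : i ⟶ k), P ((Over.pullback (D.map φ)).map p).left := by
  haveI : CompactSpace X.left := QuasiCompact.compactSpace_of_compactSpace X.hom
  haveI : QuasiSeparatedSpace X.left := quasiSeparatedSpace_of_quasiSeparated X.hom
  haveI : CompactSpace Y.left := QuasiCompact.compactSpace_of_compactSpace Y.hom
  haveI : QuasiSeparatedSpace Y.left := quasiSeparatedSpace_of_quasiSeparated Y.hom
  haveI : LocallyOfFinitePresentation (p.left ≫ Y.hom) := by rw [Over.w p]; infer_instance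
  haveI : LocallyOfFinitePresentation p.left := OpenImm.lfp_of_comp _ Y.hom
  haveI : MorphismProperty.RespectsIso (C := Scheme.{u}) @LocallyOfFinitePresentation :=
    MorphismProperty.IsStableUnderBaseChange.respectsIso
  obtain ⟨i, φ, Xi, Yi, fi, gi, pY, pX, h1, h2, h3⟩ := Descend.descend_over H D c hc k p.left Y.hom
    ((Over.pullback (c.π.app k)).map p).left (pullback.snd Y.hom (c.π.app k)) (pullback.fst Y.hom (c.π.app k))
    (pullback.fst X.hom (c.π.app k)) (IsPullback.of_hasPullback _ _)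
    (Groth.Agent.H69.TorsorDescend.isPullback_map_left _ p) ‹LocallyOfFinitePresentation p.left› h
  refine ⟨i, φ, ?_⟩
  let e := h1.isoPullback
  have sq : IsPullback pX (fi ≫ e.hom) p.left (pullback.fst Y.hom (D.map φ)) :=
    h2.of_iso (Iso.refl _) (Iso.refl _) e (Iso.refl _) (by simp) (by simp) (by simp) (by simp [e])
  let w := sq.isoIsPullback _ _ (Groth.Agent.H69.TorsorDescend.isPullback_map_left (D.map φ) p)
  have hw : w.hom ≫ ((Over.pullback (D.map φ)).map p).left = fi ≫ e.hom :=
    IsPullback.isoIsPullback_hom_snd _ _ _ _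
  refine (P.cancel_left_of_respectsIso w.hom _).mp ?_
  rw [hw]
  exact (P.cancel_right_of_respectsIso fi e.hom).mpr h3

include hc in
/-- Two morphisms over a stage equal at the limit are equal at a later stage. -/
theorem exists_eq {R Y : Over (D.obj k)} [QuasiCompact R.hom] [LocallyOfFiniteType Y.hom] (a b : R ⟶ Y)
    (h : (Over.pullback (c.π.app k)).map a = (Over.pullback (c.π.app k)).map b) :
    ∃ (i : I) (φ : i ⟶ k), (Over.pullback (D.map φ)).map a = (Over.pullback (D.map φ)).map b := by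
  haveI : CompactSpace R.left := QuasiCompact.compactSpace_of_compactSpace R.hom
  obtain ⟨i, φ, e⟩ := Basic.exists_bc_comp_eq hc (IsPullback.of_hasPullback R.hom (c.π.app k)) Y.hom a.left b.left
    ((Over.w a).trans (Over.w b).symm) (by
      have := congr(($h).left ≫ pullback.fst Y.hom (c.π.app k))
      simpa [Over.pullback] using this)
  refine ⟨i, φ, Over.OverMorphism.ext (pullback.hom_ext ?_ ?_)⟩
  · simpa [Over.pullback] using e
  · simp [Over.pullback]

variable {R X Y : Over (D.obj k)}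

theorem instances_bc {i : I} (φ : i ⟶ k) (Z : Over (D.obj k))
    [LocallyOfFinitePresentation Z.hom] [QuasiCompact Z.hom] [QuasiSeparated Z.hom] :
    LocallyOfFinitePresentation (Red.bc (D.map φ) Z).hom ∧ QuasiCompact (Red.bc (D.map φ) Z).hom ∧
      QuasiSeparated (Red.bc (D.map φ) Z).hom :=
  ⟨MorphismProperty.pullback_snd (P := @LocallyOfFinitePresentation) _ _ inferInstance,
    MorphismProperty.pullback_snd (P := @QuasiCompact) _ _ inferInstance,
    MorphismProperty.pullback_snd (P := @QuasiSeparated) _ _ inferInstance⟩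

variable [LocallyOfFinitePresentation R.hom] [QuasiCompact R.hom] [QuasiSeparated R.hom]
  [LocallyOfFinitePresentation X.hom] [QuasiCompact X.hom] [QuasiSeparated X.hom]
  [LocallyOfFinitePresentation Y.hom] [QuasiCompact Y.hom] [QuasiSeparated Y.hom]
  {s t : R ⟶ X}

include hc in
set_option maxHeartbeats 1000000 in
/-- A morphism over a stage which is the quotient at the limit is one at a later stage. -/
theorem exists_stage (p : X ⟶ Y) (h1 : Flat ((Over.pullback (c.π.app k)).map p).left)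
    (h2 : Surjective ((Over.pullback (c.π.app k)).map p).left) (heq : s ≫ p = t ≫ p)
    (h4 : IsPullback ((Over.pullback (c.π.app k)).map s) ((Over.pullback (c.π.app k)).map t)
      ((Over.pullback (c.π.app k)).map p) ((Over.pullback (c.π.app k)).map p)) :
    ∃ (i : I) (φ : i ⟶ k), HasQuot (D.map φ) s t := by
  haveI : LocallyOfFinitePresentation (p.left ≫ Y.hom) := by rw [Over.w p]; infer_instance
  haveI : LocallyOfFinitePresentation p.left := OpenImm.lfp_of_comp _ Y.hom
  haveI : QuasiCompact p.left := by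
    haveI : QuasiCompact (p.left ≫ Y.hom) := by rw [Over.w p]; infer_instance
    exact QuasiCompact.of_comp p.left Y.hom
  haveI : QuasiSeparated p.left := by
    haveI : QuasiSeparated (p.left ≫ Y.hom) := by rw [Over.w p]; infer_instance
    exact QuasiSeparated.of_comp p.left Y.hom
  let Z : Over (D.obj k) := Over.mk (pullback.fst p.left p.left ≫ X.hom)
  haveI : LocallyOfFinitePresentation Z.hom :=
    inferInstanceAs (LocallyOfFinitePresentation (pullback.fst p.left p.left ≫ X.hom))
  haveI : QuasiCompact Z.hom := inferInstanceAs (QuasiCompact (pullback.fst p.left p.left ≫ X.hom))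
  haveI : QuasiSeparated Z.hom := inferInstanceAs (QuasiSeparated (pullback.fst p.left p.left ≫ X.hom))
  let z₁ : Z ⟶ X := Over.homMk (pullback.fst p.left p.left)
  let z₂ : Z ⟶ X := Over.homMk (pullback.snd p.left p.left) (by
    show pullback.snd p.left p.left ≫ X.hom = pullback.fst p.left p.left ≫ X.hom
    rw [← Over.w p, pullback.condition_assoc])
  have hw : z₁ ≫ p = z₂ ≫ p := Over.OverMorphism.ext pullback.condition
  have hZ : IsPullback z₁ z₂ p p :=
    IsPullback.of_map (Over.forget _) hw (IsPullback.of_hasPullback p.left p.left)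
  let θ : R ⟶ Z := hZ.lift s t heq
  have hiso : IsIso ((Over.pullback (c.π.app k)).map θ).left := by
    have hm := hZ.map (Over.pullback (c.π.app k))
    have : (Over.pullback (c.π.app k)).map θ = (h4.isoIsPullback _ _ hm).hom := by
      refine hm.hom_ext ?_ ?_
      · rw [IsPullback.isoIsPullback_hom_fst, ← Functor.map_comp, hZ.lift_fst]
      · rw [IsPullback.isoIsPullback_hom_snd, ← Functor.map_comp, hZ.lift_snd]
    rw [this]
    exact inferInstanceAs (IsIso ((Over.forget _).map _))
  have hlfp : LocallyOfFinitePresentation ((Over.pullback (c.π.app k)).map p).left :=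
    prop_bc @LocallyOfFinitePresentation _ p inferInstance
  obtain ⟨i₁, φ₁, hf⟩ := exists_prop hc Groth.Agent.H2.FlatDescend.flatFp_descends p ⟨h1, hlfp⟩
  obtain ⟨i₂, φ₂, hs⟩ := exists_prop hc Groth.Agent.H47.LimDescend.surjective_descends p h2
  obtain ⟨i₃, φ₃, hθ⟩ := exists_prop hc Groth.Agent.Lib.Lim.SmoothEtale.isIso_descends θ hiso
  obtain ⟨m, a₁, a₂, ha⟩ := IsCofiltered.cospan φ₁ φ₂
  obtain ⟨i, b, b₃, hb⟩ := IsCofiltered.cospan (a₁ ≫ φ₁) φ₃
  let ψ := b₃ ≫ φ₃
  have e₁ : (b ≫ a₁) ≫ φ₁ = ψ := by rw [Category.assoc, hb]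
  have e₂ : (b ≫ a₂) ≫ φ₂ = ψ := by rw [Category.assoc, ← ha, hb]
  have move : ∀ (P : MorphismProperty Scheme.{u}) [P.IsStableUnderBaseChange] {j : I} (φ : j ⟶ k) (b : i ⟶ j)
      (_ : b ≫ φ = ψ) {A B : Over (D.obj k)} (f : A ⟶ B), P ((Over.pullback (D.map φ)).map f).left →
      P ((Over.pullback (D.map ψ)).map f).left := fun P _ {j} φ b e {A B} f hf =>
    (prop_cmp_iff P (D.map φ) (D.map b) (by rw [← D.map_comp, e]) f).mp (prop_bc P _ _ hf)
  refine ⟨i, ψ, Red.bc (D.map ψ) Y, (Over.pullback (D.map ψ)).map p,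
    move @Flat φ₁ _ e₁ p hf.1, move @Surjective φ₂ _ e₂ p hs,
    move @LocallyOfFinitePresentation φ₁ _ e₁ p hf.2, ?_⟩
  haveI : IsIso ((Over.pullback (D.map ψ)).map θ).left :=
    move (MorphismProperty.isomorphisms Scheme) φ₃ b₃ rfl θ hθ
  haveI : IsIso ((Over.forget _).map ((Over.pullback (D.map ψ)).map θ)) := ‹_›
  haveI : IsIso ((Over.pullback (D.map ψ)).map θ) := isIso_of_reflects_iso _ (Over.forget _)
  refine (hZ.map (Over.pullback (D.map ψ))).of_iso (asIso ((Over.pullback (D.map ψ)).map θ)).symm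
    (Iso.refl _) (Iso.refl _) (Iso.refl _) ?_ ?_ (by simp) (by simp)
  · rw [Iso.symm_hom, asIso_inv, Iso.refl_hom, Category.comp_id]
    exact (IsIso.eq_inv_comp _).mpr (by rw [← Functor.map_comp, hZ.lift_fst])
  · rw [Iso.symm_hom, asIso_inv, Iso.refl_hom, Category.comp_id]
    exact (IsIso.eq_inv_comp _).mpr (by rw [← Functor.map_comp, hZ.lift_snd])

omit [LocallyOfFinitePresentation R.hom] [QuasiCompact R.hom] [QuasiSeparated R.hom] in
include hc in
/-- A morphism at the limit is defined at a stage. -/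
theorem exists_hom (q : Red.bc (c.π.app k) X ⟶ Red.bc (c.π.app k) Y) :
    ∃ (i : I) (φ : i ⟶ k) (p : Red.bc (D.map φ) X ⟶ Red.bc (D.map φ) Y),
      (Over.pullback (c.π.app i)).map p =
        (cmp (D.map φ) (c.π.app i) (c.w φ)).hom.app X ≫ q ≫ (cmp (D.map φ) (c.π.app i) (c.w φ)).inv.app Y := by
  haveI : CompactSpace X.left := QuasiCompact.compactSpace_of_compactSpace X.hom
  haveI : QuasiSeparatedSpace X.left := quasiSeparatedSpace_of_quasiSeparated X.hom
  have hq : q.left ≫ pullback.snd Y.hom (c.π.app k) = pullback.snd X.hom (c.π.app k) := Over.w q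
  obtain ⟨i, φ, g, hg, hg'⟩ := Basic.exists_bc_hom hc (IsPullback.of_hasPullback X.hom (c.π.app k)) Y.hom X.hom
    (q.left ≫ pullback.fst Y.hom (c.π.app k)) (by
      rw [Category.assoc, pullback.condition, ← Category.assoc, hq, pullback.condition])
  refine ⟨i, φ, Over.homMk (pullback.lift g (pullback.snd X.hom (D.map φ)) (by rw [hg, pullback.condition]))
    (pullback.lift_snd _ _ _), ?_⟩
  rw [← cancel_mono ((cmp (D.map φ) (c.π.app i) (c.w φ)).hom.app Y), Category.assoc, Category.assoc,
    Iso.inv_hom_id_app, Category.comp_id]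
  set p₁ : Red.bc (D.map φ) X ⟶ Red.bc (D.map φ) Y :=
    Over.homMk (pullback.lift g (pullback.snd X.hom (D.map φ)) (by rw [hg, pullback.condition]))
      (pullback.lift_snd _ _ _) with hp₁
  have h1 : p₁.left ≫ pullback.fst Y.hom (D.map φ) = g := pullback.lift_fst _ _ _
  have h2 := (Groth.Agent.H69.TorsorDescend.isPullback_map_left (c.π.app i) p₁).w
  have h3 := cmp_hom_fst (D.map φ) (c.π.app i) (c.w φ) X
  have h4 : ((cmp (D.map φ) (c.π.app i) (c.w φ)).hom.app X).left ≫
      pullback.lift (pullback.fst X.hom (c.π.app k)) (pullback.snd X.hom (c.π.app k) ≫ c.π.app i)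
        (by rw [Category.assoc, c.w, pullback.condition]) =
      pullback.fst (pullback.snd X.hom (D.map φ)) (c.π.app i) := by
    apply pullback.hom_ext
    · rw [Category.assoc, pullback.lift_fst]
      exact h3
    · rw [Category.assoc, pullback.lift_snd, pullback.condition, ← Category.assoc]
      exact congrArg (· ≫ c.π.app i) (pullback.lift_snd _ _ _)
  apply Over.OverMorphism.ext
  apply pullback.hom_ext
  · refine (Category.assoc _ _ _).trans (Eq.trans ?_ (Category.assoc _ _ _).symm)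
    refine (congrArg (((Over.pullback (c.π.app i)).map p₁).left ≫ ·)
      (cmp_hom_fst (D.map φ) (c.π.app i) (c.w φ) Y)).trans ?_
    refine Eq.trans ?_ (congrArg (((cmp (D.map φ) (c.π.app i) (c.w φ)).hom.app X).left ≫ ·) hg')
    refine Eq.trans ?_ ((Category.assoc _ _ _).symm.trans (congrArg (· ≫ g) h4)).symm
    exact (Category.assoc _ _ _).symm.trans ((congrArg (· ≫ pullback.fst Y.hom (D.map φ)) h2.symm).trans
      ((Category.assoc _ _ _).trans (congrArg (pullback.fst (pullback.snd X.hom (D.map φ)) (c.π.app i) ≫ ·) h1)))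
  · refine (Category.assoc _ _ _).trans (Eq.trans ?_ (Category.assoc _ _ _).symm)
    refine (congrArg (((Over.pullback (c.π.app i)).map p₁).left ≫ ·) (pullback.lift_snd _ _ _)).trans ?_
    refine Eq.trans ?_ (congrArg (((cmp (D.map φ) (c.π.app i) (c.w φ)).hom.app X).left ≫ ·) hq).symm
    exact (Over.w ((Over.pullback (c.π.app i)).map p₁)).trans (pullback.lift_snd _ _ _).symm

omit [LocallyOfFinitePresentation Y.hom] [QuasiCompact Y.hom] [QuasiSeparated Y.hom] in
include hc in
set_option maxHeartbeats 1000000 in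
/-- Representability of the quotient descends from the limit. -/
theorem exists_hasQuot (h : HasQuot (c.π.app k) s t) : ∃ (i : I) (φ : i ⟶ k), HasQuot (D.map φ) s t := by
  obtain ⟨Q, p, h1, h2, h3, h4⟩ := h
  haveI := Basic.compactSpace_pt hc k
  haveI := Basic.quasiSeparatedSpace_pt hc k
  haveI : LocallyOfFinitePresentation (Red.bc (c.π.app k) X).hom :=
    inferInstanceAs (LocallyOfFinitePresentation (pullback.snd X.hom _))
  haveI : QuasiCompact (Red.bc (c.π.app k) X).hom := inferInstanceAs (QuasiCompact (pullback.snd X.hom _))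
  haveI : QuasiSeparated (Red.bc (c.π.app k) X).hom := inferInstanceAs (QuasiSeparated (pullback.snd X.hom _))
  haveI : QuasiCompact ((Over.pullback (c.π.app k)).obj R).hom := inferInstanceAs (QuasiCompact (pullback.snd R.hom _))
  haveI : QuasiSeparated ((Over.pullback (c.π.app k)).obj R).hom :=
    inferInstanceAs (QuasiSeparated (pullback.snd R.hom _))
  haveI : CompactSpace ↥(((Functor.const I).obj c.pt).obj k) := inferInstanceAs (CompactSpace c.pt)
  haveI : QuasiSeparatedSpace ↥(((Functor.const I).obj c.pt).obj k) := inferInstanceAs (QuasiSeparatedSpace c.pt)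
  obtain ⟨hYc, hYq, hYf⟩ := finite_presentation_quot p h4
  obtain ⟨i₀, Y₀, f₀, g₀, hc₀, hq₀, hf₀, hsq⟩ := FPDescend.exists_descent hc Q.hom
  let i₁ := IsCofiltered.min k i₀
  let a : i₁ ⟶ k := IsCofiltered.minToLeft k i₀
  let b : i₁ ⟶ i₀ := IsCofiltered.minToRight k i₀
  let Y₁ : Over (D.obj i₁) := Over.mk (pullback.snd f₀ (D.map b))
  haveI : LocallyOfFinitePresentation Y₁.hom := MorphismProperty.pullback_snd (P := @LocallyOfFinitePresentation) _ _ hf₀
  haveI : QuasiCompact f₀ := QuasiCompact.of_comp f₀ (D.obj i₀).toSpecΓ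
  haveI : QuasiSeparated f₀ := QuasiSeparated.of_comp f₀ (D.obj i₀).toSpecΓ
  haveI : QuasiCompact Y₁.hom := inferInstanceAs (QuasiCompact (pullback.snd f₀ (D.map b)))
  haveI : QuasiSeparated Y₁.hom := inferInstanceAs (QuasiSeparated (pullback.snd f₀ (D.map b)))
  let eQ : Q ≅ Red.bc (c.π.app i₁) Y₁ :=
    Over.isoMk (FPDescend.move hsq b).isoPullback (IsPullback.isoPullback_hom_snd _)
  let X₁ := Red.bc (D.map a) X
  let R₁ := Red.bc (D.map a) R
  obtain ⟨_, _, _⟩ := instances_bc a X
  obtain ⟨_, _, _⟩ := instances_bc a R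
  let α := cmp (D.map a) (c.π.app i₁) (c.w a)
  obtain ⟨i₂, φ₂, p₂, hp₂⟩ := exists_hom hc (X := X₁) (Y := Y₁) (α.hom.app X ≫ p ≫ eQ.hom)
  let X₂ := Red.bc (D.map φ₂) X₁
  let R₂ := Red.bc (D.map φ₂) R₁
  let Y₂ := Red.bc (D.map φ₂) Y₁
  obtain ⟨_, _, _⟩ := instances_bc φ₂ X₁
  obtain ⟨_, _, _⟩ := instances_bc φ₂ R₁
  obtain ⟨_, _, _⟩ := instances_bc φ₂ Y₁
  let s₂ : R₂ ⟶ X₂ := (Over.pullback (D.map φ₂)).map ((Over.pullback (D.map a)).map s)
  let t₂ : R₂ ⟶ X₂ := (Over.pullback (D.map φ₂)).map ((Over.pullback (D.map a)).map t)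
  let β := cmp (D.map φ₂) (c.π.app i₂) (c.w φ₂)
  let eX := β.app X₁ ≪≫ α.app X
  let eR := β.app R₁ ≪≫ α.app R
  let eY := β.app Y₁ ≪≫ eQ.symm
  have hp : (Over.pullback (c.π.app i₂)).map p₂ ≫ eY.hom = eX.hom ≫ p := by
    rw [hp₂]; simp [eX, eY, β]
  have hnat : ∀ f : R ⟶ X, (Over.pullback (c.π.app i₂)).map
      ((Over.pullback (D.map φ₂)).map ((Over.pullback (D.map a)).map f)) ≫ eX.hom =
      eR.hom ≫ (Over.pullback (c.π.app k)).map f := fun f => by
    simp only [eX, eR, Iso.trans_hom, Iso.app_hom, Category.assoc]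
    rw [← α.hom.naturality f]
    exact (β.hom.naturality_assoc ((Over.pullback (D.map a)).map f) _)
  have hlim : IsPullback ((Over.pullback (c.π.app i₂)).map s₂) ((Over.pullback (c.π.app i₂)).map t₂)
      ((Over.pullback (c.π.app i₂)).map p₂) ((Over.pullback (c.π.app i₂)).map p₂) :=
    h4.of_iso eR.symm eX.symm eX.symm eY.symm
      (by rw [Iso.symm_hom, Iso.symm_hom, Iso.eq_inv_comp, ← Category.assoc, Iso.comp_inv_eq]; exact (hnat s).symm)
      (by rw [Iso.symm_hom, Iso.symm_hom, Iso.eq_inv_comp, ← Category.assoc, Iso.comp_inv_eq]; exact (hnat t).symm)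
      (by rw [Iso.symm_hom, Iso.symm_hom, Iso.eq_inv_comp, ← Category.assoc, Iso.comp_inv_eq]; exact hp.symm)
      (by rw [Iso.symm_hom, Iso.symm_hom, Iso.eq_inv_comp, ← Category.assoc, Iso.comp_inv_eq]; exact hp.symm)
  obtain ⟨i₃, φ₃, he⟩ := exists_eq hc (s₂ ≫ p₂) (t₂ ≫ p₂) (by
    rw [Functor.map_comp, Functor.map_comp]; exact hlim.w)
  rw [Functor.map_comp, Functor.map_comp] at he
  obtain ⟨_, _, _⟩ := instances_bc φ₃ X₂
  obtain ⟨_, _, _⟩ := instances_bc φ₃ R₂
  obtain ⟨_, _, _⟩ := instances_bc φ₃ Y₂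
  let γ := cmp (D.map φ₃) (c.π.app i₃) (c.w φ₃)
  have hprop : ∀ (P : MorphismProperty Scheme.{u}) [P.RespectsIso], P p.left →
      P ((Over.pullback (c.π.app i₃)).map ((Over.pullback (D.map φ₃)).map p₂)).left := fun P _ hP => by
    refine (prop_cmp_iff P (D.map φ₃) (c.π.app i₃) (c.w φ₃) p₂).mpr ?_
    exact (P.arrow_mk_iso_iff (Arrow.isoMk ((Over.forget _).mapIso eX) ((Over.forget _).mapIso eY)
      congr(($hp).left).symm)).mpr hP
  obtain ⟨i, φ, hq⟩ := exists_stage hc (s := (Over.pullback (D.map φ₃)).map s₂)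
    (t := (Over.pullback (D.map φ₃)).map t₂) ((Over.pullback (D.map φ₃)).map p₂)
    (hprop @Flat h1) (hprop @Surjective h2) he
    (hlim.of_iso (γ.app R₂).symm (γ.app X₂).symm (γ.app X₂).symm (γ.app Y₂).symm
      (γ.inv.naturality s₂) (γ.inv.naturality t₂) (γ.inv.naturality p₂) (γ.inv.naturality p₂))
  refine ⟨i, φ ≫ φ₃ ≫ φ₂ ≫ a, ?_⟩
  have step : ∀ {i' j' : I} (f : i' ⟶ j') {j'' : I} (g : j' ⟶ j'') {A B : Over (D.obj j'')} {u v : A ⟶ B},
      HasQuot (D.map f) ((Over.pullback (D.map g)).map u) ((Over.pullback (D.map g)).map v) →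
      HasQuot (D.map (f ≫ g)) u v := by
    intro i' j' f j'' g A B u v ⟨W, w, k1, k2, k3, k4⟩
    let δ := cmp (D.map g) (D.map f) (D.map_comp f g).symm
    haveI : IsIso (δ.inv.app B).left := inferInstanceAs (IsIso ((Over.forget _).map (δ.inv.app B)))
    refine ⟨W, δ.inv.app B ≫ w, ?_, ?_, ?_, ?_⟩
    · rw [Over.comp_left]; infer_instance
    · rw [Over.comp_left]; infer_instance
    · rw [Over.comp_left]; infer_instance
    · exact k4.of_iso (δ.app A) (δ.app B) (δ.app B) (Iso.refl _) (δ.hom.naturality u) (δ.hom.naturality v)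
        (by simp) (by simp)
  have q2 : HasQuot (D.map (φ ≫ φ₃)) s₂ t₂ := step φ φ₃ hq
  have q1 := step (φ ≫ φ₃) φ₂ q2
  have q0 := step ((φ ≫ φ₃) ≫ φ₂) a q1
  simpa only [Category.assoc] using q0

end Groth.Agent.Lib.QuotLimit
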