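import Groth.Agent.H69.TorsorDescend
import Groth.Agent.H14.FppfDesc.Scheme

/-!
# Quotients by flat equivalence relations under base change; finiteness of quotients
-/

set_option autoImplicit false
set_option linter.style.haveILetI false
set_option backward.isDefEq.respectTransparency false

universe u

open CategoryTheory CategoryTheory.Limits AlgebraicGeometry

namespace Groth.Agent.Lib.QuotLimit

variable {S B B' : Scheme.{u}}

/-- The relation `(s, t)` has an fppf quotient after base change along `a`. -/
def HasQuot (a : B ⟶ S) {R X : Over S} (s t : R ⟶ X) : Prop :=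
  ∃ (Y : Over B) (p : Red.bc a X ⟶ Y), Flat p.left ∧ Surjective p.left ∧ LocallyOfFinitePresentation p.left ∧
    IsPullback ((Over.pullback a).map s) ((Over.pullback a).map t) p p

/-- A successive base change is a base change. -/
noncomputable def cmpObj (a : B ⟶ S) (b : B' ⟶ B) {a' : B' ⟶ S} (e : b ≫ a = a') (X : Over S) :
    (Over.pullback b).obj ((Over.pullback a).obj X) ≅ (Over.pullback a').obj X :=
  Over.isoMk
    { hom := pullback.lift (pullback.fst (pullback.snd X.hom a) b ≫ pullback.fst X.hom a)
        (pullback.snd (pullback.snd X.hom a) b)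
        (by rw [Category.assoc, pullback.condition, ← e, pullback.condition_assoc])
      inv := pullback.lift (pullback.lift (pullback.fst X.hom a') (pullback.snd X.hom a' ≫ b)
          (by rw [Category.assoc, e, pullback.condition])) (pullback.snd X.hom a') (pullback.lift_snd _ _ _)
      hom_inv_id := by
        apply pullback.hom_ext
        · apply pullback.hom_ext
          · simp [Over.pullback]
          · simp [Over.pullback, pullback.condition]
        · simp [Over.pullback]
      inv_hom_id := by
        apply pullback.hom_ext <;> simp [Over.pullback] }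
    (pullback.lift_snd _ _ _)

/-- Successive base change as a natural isomorphism. -/
noncomputable def cmp (a : B ⟶ S) (b : B' ⟶ B) {a' : B' ⟶ S} (e : b ≫ a = a') :
    Over.pullback a ⋙ Over.pullback b ≅ Over.pullback a' :=
  NatIso.ofComponents (cmpObj a b e) fun {X Y} f => by
    apply Over.OverMorphism.ext
    apply pullback.hom_ext
    · simp [cmpObj, Over.pullback]
    · simp [cmpObj, Over.pullback]

theorem cmp_hom_fst (a : B ⟶ S) (b : B' ⟶ B) {a' : B' ⟶ S} (e : b ≫ a = a') (X : Over S) :
    ((cmp a b e).hom.app X).left ≫ pullback.fst X.hom a' =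
      pullback.fst (pullback.snd X.hom a) b ≫ pullback.fst X.hom a :=
  pullback.lift_fst _ _ _

/-- A property of morphisms of schemes is invariant under the comparison. -/
theorem prop_cmp_iff (P : MorphismProperty Scheme.{u}) [P.RespectsIso] (a : B ⟶ S) (b : B' ⟶ B)
    {a' : B' ⟶ S} (e : b ≫ a = a') {X Y : Over S} (f : X ⟶ Y) :
    P ((Over.pullback b).map ((Over.pullback a).map f)).left ↔ P ((Over.pullback a').map f).left :=
  P.arrow_mk_iso_iff (Arrow.isoMk ((Over.forget _).mapIso ((cmp a b e).app X))
    ((Over.forget _).mapIso ((cmp a b e).app Y)) (congr($((cmp a b e).hom.naturality f).left)).symm)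

/-- A property stable under base change passes to a further base change. -/
theorem prop_bc (P : MorphismProperty Scheme.{u}) [P.IsStableUnderBaseChange] (a : B ⟶ S) {X Y : Over S}
    (f : X ⟶ Y) (h : P f.left) : P ((Over.pullback a).map f).left :=
  P.of_isPullback (Groth.Agent.H69.TorsorDescend.isPullback_map_left a f) h

/-- A quotient gives one after base change. -/
theorem hasQuot_bc (a : B ⟶ S) (b : B' ⟶ B) {a' : B' ⟶ S} (e : b ≫ a = a') {R X : Over S} {s t : R ⟶ X}
    (h : HasQuot a s t) : HasQuot a' s t := by
  obtain ⟨Y, p, h1, h2, h3, h4⟩ := h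
  let eX := (cmp a b e).app X
  haveI : IsIso eX.inv.left := inferInstanceAs (IsIso ((Over.forget _).map eX.inv))
  haveI : Flat ((Over.pullback b).map p).left := prop_bc @Flat b p h1
  haveI : Surjective ((Over.pullback b).map p).left := prop_bc @Surjective b p h2
  haveI : LocallyOfFinitePresentation ((Over.pullback b).map p).left := prop_bc @LocallyOfFinitePresentation b p h3
  refine ⟨_, eX.inv ≫ (Over.pullback b).map p, ?_, ?_, ?_, ?_⟩
  · rw [Over.comp_left]; infer_instance
  · rw [Over.comp_left]; infer_instance
  · rw [Over.comp_left]; infer_instance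
  · exact (h4.map (Over.pullback b)).of_iso ((cmp a b e).app R) eX eX (Iso.refl _)
      ((cmp a b e).hom.naturality s) ((cmp a b e).hom.naturality t) (by simp [eX]) (by simp [eX])

/-- The quotient of a relation with finite type source is of finite presentation. -/
theorem finite_presentation_quot [CompactSpace S] [QuasiSeparatedSpace S] {R X Y : Over S}
    [LocallyOfFinitePresentation X.hom] [QuasiCompact X.hom] [QuasiSeparated X.hom]
    [QuasiCompact R.hom] [QuasiSeparated R.hom] {s t : R ⟶ X} (p : X ⟶ Y) [Flat p.left]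
    [Surjective p.left] [LocallyOfFinitePresentation p.left] (h : IsPullback s t p p) :
    CompactSpace Y.left ∧ QuasiSeparatedSpace Y.left ∧ LocallyOfFinitePresentation Y.hom := by
  haveI : CompactSpace X.left := QuasiCompact.compactSpace_of_compactSpace X.hom
  haveI : QuasiSeparatedSpace X.left := quasiSeparatedSpace_of_quasiSeparated X.hom
  haveI : CompactSpace R.left := QuasiCompact.compactSpace_of_compactSpace R.hom
  haveI : QuasiSeparatedSpace R.left := quasiSeparatedSpace_of_quasiSeparated R.hom
  haveI : CompactSpace Y.left := ⟨by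
    rw [← (p.left.surjective).range_eq]
    exact isCompact_range p.left.continuous⟩
  refine ⟨inferInstance, ⟨fun U V hUo hUc hVo hVc => ?_⟩,
    Groth.Agent.H14.FppfDesc.Scheme.locallyOfFinitePresentation_of_comp p.left Y.hom
      (by rw [Over.w p]; infer_instance)⟩
  haveI : UniversallyOpen p.left := inferInstance
  have hopen : IsOpenMap p.left := p.left.isOpenMap
  have hcov : ∀ W : Set Y.left, IsOpen W → IsCompact W →
      ∃ K : X.left.Opens, IsCompact (K : Set X.left) ∧ p.left '' (K : Set X.left) = W := by
    intro W hWo hWc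
    choose V hV hxV hVW using fun x : (p.left ⁻¹' W : Set X.left) =>
      exists_isAffineOpen_mem_and_subset (X := X.left) (x := x.1)
        (U := ⟨p.left ⁻¹' W, hWo.preimage p.left.continuous⟩) x.2
    obtain ⟨T, hT⟩ := hWc.elim_finite_subcover (fun x => p.left '' (V x : Set X.left))
      (fun x => hopen _ (V x).2) (fun w hw => by
        obtain ⟨x, rfl⟩ := p.left.surjective w
        exact Set.mem_iUnion.mpr ⟨⟨x, hw⟩, x, hxV ⟨x, hw⟩, rfl⟩)
    refine ⟨⨆ x ∈ T, V x, ?_, Set.Subset.antisymm ?_ ?_⟩
    · simp only [TopologicalSpace.Opens.coe_iSup]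
      exact T.finite_toSet.isCompact_biUnion fun x _ => (hV x).isCompact
    · rintro _ ⟨z, hz, rfl⟩
      simp only [SetLike.mem_coe, TopologicalSpace.Opens.mem_iSup] at hz
      obtain ⟨x, -, hzx⟩ := hz
      exact hVW x hzx
    · intro w hw
      obtain ⟨x, hx, z, hz, rfl⟩ := Set.mem_iUnion₂.mp (hT hw)
      exact ⟨z, TopologicalSpace.Opens.mem_iSup.mpr ⟨x, TopologicalSpace.Opens.mem_iSup.mpr ⟨hx, hz⟩⟩, rfl⟩
  obtain ⟨K, hKc, rfl⟩ := hcov U hUo hUc
  obtain ⟨L, hLc, rfl⟩ := hcov V hVo hVc
  haveI : QuasiCompact s.left := by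
    haveI : QuasiCompact (s.left ≫ X.hom) := by rw [Over.w s]; infer_instance
    exact QuasiCompact.of_comp s.left X.hom
  haveI : QuasiCompact t.left := by
    haveI : QuasiCompact (t.left ≫ X.hom) := by rw [Over.w t]; infer_instance
    exact QuasiCompact.of_comp t.left X.hom
  have hsq : IsPullback s.left t.left p.left p.left := h.map (Over.forget S)
  have hA : IsCompact (s.left ⁻¹' (K : Set X.left) ∩ t.left ⁻¹' (L : Set X.left)) :=
    QuasiSeparatedSpace.inter_isCompact _ _ (K.2.preimage s.left.continuous) (s.left.isCompact_preimage hKc)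
      (L.2.preimage t.left.continuous) (t.left.isCompact_preimage hLc)
  have himg : p.left '' (s.left '' (s.left ⁻¹' (K : Set X.left) ∩ t.left ⁻¹' (L : Set X.left))) =
      p.left '' (K : Set X.left) ∩ p.left '' (L : Set X.left) := by
    refine Set.Subset.antisymm ?_ ?_
    · rintro _ ⟨_, ⟨r, ⟨hr₁, hr₂⟩, rfl⟩, rfl⟩
      exact ⟨⟨_, hr₁, rfl⟩, t.left r, hr₂, (congr($(hsq.w) r)).symm⟩
    · rintro _ ⟨⟨x, hx, rfl⟩, y, hy, hxy⟩
      obtain ⟨w, hw₁, hw₂⟩ := Scheme.Pullback.exists_preimage_pullback (f := p.left) (g := p.left) x y hxy.symm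
      refine ⟨x, ⟨hsq.isoPullback.inv w, ⟨?_, ?_⟩, ?_⟩, rfl⟩
      · show s.left (hsq.isoPullback.inv w) ∈ (K : Set X.left)
        rw [← Scheme.Hom.comp_apply, hsq.isoPullback_inv_fst, hw₁]
        exact hx
      · show t.left (hsq.isoPullback.inv w) ∈ (L : Set X.left)
        rw [← Scheme.Hom.comp_apply, hsq.isoPullback_inv_snd, hw₂]
        exact hy
      · rw [← Scheme.Hom.comp_apply, hsq.isoPullback_inv_fst, hw₁]
  rw [← himg]
  exact (hA.image s.left.continuous).image p.left.continuous

end Groth.Agent.Lib.QuotLimit
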